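import Mathlib

/-!
# Flat families over valuation rings with finite generic fibre
-/

set_option autoImplicit false
set_option backward.isDefEq.respectTransparency false
set_option linter.style.haveILetI false

universe u

open CategoryTheory AlgebraicGeometry Limits TensorProduct

namespace Groth.Agent.ValFinite

theorem exists_dvd_all {R : Type u} [CommRing R] [IsDomain R] [ValuationRing R] {n : ℕ} (r : Fin n → R)
    (h : ∃ i, r i ≠ 0) : ∃ j, r j ≠ 0 ∧ ∀ i, r j ∣ r i := by
  classical
  suffices ∀ s : Finset (Fin n), s.Nonempty → ∃ j ∈ s, ∀ i ∈ s, r j ∣ r i by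
    obtain ⟨i₀, hi₀⟩ := h
    obtain ⟨j, -, hj⟩ := this Finset.univ ⟨i₀, Finset.mem_univ _⟩
    exact ⟨j, fun h0 => hi₀ (zero_dvd_iff.1 (h0 ▸ hj i₀ (Finset.mem_univ _))), fun i => hj i (Finset.mem_univ _)⟩
  intro s hs
  induction hs using Finset.Nonempty.cons_induction with
  | singleton a => exact ⟨a, Finset.mem_singleton_self a, fun i hi => by rw [Finset.mem_singleton.1 hi]⟩
  | cons a s ha hs ih =>
    obtain ⟨j, hj, hdvd⟩ := ih
    rcases ValuationRing.dvd_total (r a) (r j) with h1 | h1
    · refine ⟨a, Finset.mem_cons_self _ _, fun i hi => ?_⟩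
      rcases Finset.mem_cons.1 hi with rfl | hi
      · exact dvd_rfl
      · exact h1.trans (hdvd i hi)
    · refine ⟨j, Finset.mem_cons.2 (Or.inr hj), fun i hi => ?_⟩
      rcases Finset.mem_cons.1 hi with rfl | hi
      · exact h1
      · exact hdvd i hi

variable {R A : Type u} [CommRing R] [IsDomain R] [ValuationRing R] [CommRing A] [Algebra R A]

theorem indep_generic [Module.Flat R A] {k : Type u} [Field k] [Algebra R k] {n : ℕ} (v : Fin n → A)
    (hv : LinearIndependent k (fun i => (1 : k) ⊗ₜ[R] v i)) :
    LinearIndependent (FractionRing R) (fun i => (1 : FractionRing R) ⊗ₜ[R] v i) := by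
  classical
  let K := FractionRing R
  rw [← LinearIndependent.iff_fractionRing R K, Fintype.linearIndependent_iff]
  intro c hc i
  by_contra hi
  obtain ⟨j, hj, hdvd⟩ := exists_dvd_all c ⟨i, hi⟩
  choose s hs using hdvd
  have hinj : Function.Injective (fun a : A => (1 : K) ⊗ₜ[R] a) := by
    have h1 := Module.Flat.rTensor_preserves_injective_linearMap (M := A) (Algebra.linearMap R K)
      (IsFractionRing.injective R K)
    have e : (fun a : A => (1 : K) ⊗ₜ[R] a) =
        (LinearMap.rTensor A (Algebra.linearMap R K)) ∘ (TensorProduct.lid R A).symm := by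
      funext a; simp
    rw [e]
    exact h1.comp (TensorProduct.lid R A).symm.injective
  have h0 : c j • (∑ i, s i • v i) = 0 := by
    refine hinj ?_
    simp only [TensorProduct.tmul_zero]
    rw [← hc, Finset.smul_sum, TensorProduct.tmul_sum]
    refine Finset.sum_congr rfl fun i _ => ?_
    rw [smul_smul, ← hs i, TensorProduct.tmul_smul]
  have h1 : ∑ i, s i • v i = 0 := by
    refine hinj ?_
    simp only [TensorProduct.tmul_zero]
    have h2 : algebraMap R K (c j) • ((1 : K) ⊗ₜ[R] ∑ i, s i • v i) = 0 := by
      rw [algebraMap_smul, ← TensorProduct.tmul_smul, h0, TensorProduct.tmul_zero]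
    exact (smul_eq_zero.1 h2).resolve_left (IsFractionRing.to_map_ne_zero_of_mem_nonZeroDivisors
      (mem_nonZeroDivisors_of_ne_zero hj))
  have h3 : ∑ i, algebraMap R k (s i) • ((1 : k) ⊗ₜ[R] v i) = 0 := by
    simp only [algebraMap_smul, ← TensorProduct.tmul_smul]
    rw [← TensorProduct.tmul_sum, h1, TensorProduct.tmul_zero]
  have := Fintype.linearIndependent_iff.1 hv _ h3 j
  have hsj : s j = 1 := mul_left_cancel₀ hj ((hs j).symm.trans (mul_one _).symm)
  simp [hsj] at this

theorem quasiFinite_of_finite_generic [Module.Flat R A]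
    [Module.Finite (FractionRing R) (FractionRing R ⊗[R] A)] : Algebra.QuasiFinite R A := by
  refine ⟨fun P _ => ?_⟩
  let k := P.ResidueField
  let N := Module.finrank (FractionRing R) (FractionRing R ⊗[R] A)
  let g : A → k ⊗[R] A := fun a => (1 : k) ⊗ₜ[R] a
  have hspan : Submodule.span k (Set.range g) = ⊤ := by
    rw [eq_top_iff]
    rintro x -
    induction x using TensorProduct.induction_on with
    | zero => exact Submodule.zero_mem _
    | tmul c a =>
      rw [show c ⊗ₜ[R] a = c • g a by simp [g, TensorProduct.smul_tmul']]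
      exact Submodule.smul_mem _ _ (Submodule.subset_span ⟨a, rfl⟩)
    | add x y hx hy => exact Submodule.add_mem _ hx hy
  obtain ⟨b, hb, hbspan, hli⟩ := exists_linearIndependent k (Set.range g)
  have hbound : ∀ t : Finset (k ⊗[R] A), ↑t ⊆ b → t.card ≤ N := by
    intro t ht
    let e := t.equivFin
    choose a ha using fun i : Fin t.card => hb (ht (e.symm i).2)
    have hv : LinearIndependent k (fun i => g (a i)) := by
      have : (fun i => g (a i)) = (Subtype.val : b → k ⊗[R] A) ∘ fun i => ⟨(e.symm i).1, ht (e.symm i).2⟩ :=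
        funext fun i => ha i
      rw [this]
      exact hli.comp _ fun i i' h => e.symm.injective (Subtype.ext (congrArg Subtype.val h :))
    simpa using (indep_generic a hv).fintype_card_le_finrank
  have hfin : b.Finite := by
    by_contra hinf
    obtain ⟨t, ht, hcard⟩ := (Set.not_finite.1 hinf).exists_subset_card_eq (N + 1)
    have := hbound t ht
    omega
  rw [hspan] at hbspan
  exact ⟨⟨hfin.toFinset, by rw [hfin.coe_toFinset, hbspan]⟩⟩

theorem finite_generic_of_chart {B : Type u} [CommRing B] [Algebra R B] {Y : Scheme.{u}}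
    (f : Y ⟶ Spec (CommRingCat.of R)) (j : Spec (CommRingCat.of B) ⟶ Y) [IsOpenImmersion j]
    (hj : j ≫ f = Spec.map (CommRingCat.ofHom (algebraMap R B)))
    (hgen : IsFinite (pullback.snd f (Spec.map (CommRingCat.ofHom (algebraMap R (FractionRing R)))))) :
    Module.Finite (FractionRing R) (FractionRing R ⊗[R] B) := by
  let K := FractionRing R
  haveI := hgen
  haveI : LocallyQuasiFinite (pullback.snd j (pullback.fst f (Spec.map (CommRingCat.ofHom (algebraMap R K))))) :=
    MorphismProperty.pullback_snd _ _ inferInstance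
  have hb : LocallyQuasiFinite (pullback.snd (j ≫ f) (Spec.map (CommRingCat.ofHom (algebraMap R K)))) := by
    rw [← Iso.inv_hom_id_assoc (pullbackRightPullbackFstIso f (Spec.map (CommRingCat.ofHom (algebraMap R K))) j)
      (pullback.snd _ _), pullbackRightPullbackFstIso_hom_snd]
    infer_instance
  rw [hj, ← pullbackSymmetry_hom_comp_fst, MorphismProperty.cancel_left_of_respectsIso @LocallyQuasiFinite,
    ← pullbackSpecIso_hom_fst' R K B, MorphismProperty.cancel_left_of_respectsIso @LocallyQuasiFinite,
    HasRingHomProperty.Spec_iff (P := @LocallyQuasiFinite)] at hb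
  haveI : Algebra.QuasiFinite K (K ⊗[R] B) := RingHom.quasiFinite_algebraMap.1 hb
  exact Module.Finite.of_quasiFinite

/-- flat, proper, generically finite over a valuation ring is finite -/
theorem isFinite_of_flat_proper {Y : Scheme.{u}} (f : Y ⟶ Spec (CommRingCat.of R)) [Flat f] [IsProper f]
    (hgen : IsFinite (pullback.snd f (Spec.map (CommRingCat.ofHom (algebraMap R (FractionRing R)))))) :
    IsFinite f := by
  suffices LocallyQuasiFinite f from IsFinite.of_isProper_of_locallyQuasiFinite f
  have key : ∀ (B : Type u) [CommRing B] (φ : R →+* B) (j : Spec (CommRingCat.of B) ⟶ Y) [IsOpenImmersion j],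
      j ≫ f = Spec.map (CommRingCat.ofHom φ) → LocallyQuasiFinite (j ≫ f) := by
    intro B _ φ j _ hj
    have hflat : φ.Flat := by
      have : Flat (Spec.map (CommRingCat.ofHom φ)) := by rw [← hj]; infer_instance
      rwa [HasRingHomProperty.Spec_iff (P := @Flat)] at this
    rw [hj, HasRingHomProperty.Spec_iff (P := @LocallyQuasiFinite)]
    algebraize [φ]
    haveI := finite_generic_of_chart f j hj hgen
    exact RingHom.quasiFinite_algebraMap.2 quasiFinite_of_finite_generic
  refine (IsZariskiLocalAtSource.iff_of_openCover (P := @LocallyQuasiFinite) Y.affineCover).2 fun i => ?_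
  obtain ⟨φ, hφ⟩ := Spec.map_surjective (Y.affineCover.f i ≫ f)
  exact key _ φ.hom (Y.affineCover.f i) hφ.symm

end Groth.Agent.ValFinite
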